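import Groth.Agent.H6RelPerf.Basic
import Groth.Agent.H9Misc.DRingLBase
import Groth.Agent.KFlatLib.Ring.BaseChangePushout

/-! Derived base change commutes with restriction along a flat algebra. -/

set_option linter.style.haveILetI false
set_option backward.isDefEq.respectTransparency false

universe u

open CategoryTheory CategoryTheory.Limits
open scoped TensorProduct

attribute [local instance] HasDerivedCategory.standard

namespace Groth.Agent.H6RelPerf

open Groth.Agent.H9Misc

variable {R A R' : Type u} [CommRing R] [CommRing A] [Algebra R A] [CommRing R'] [Algebra R R'] [Module.Flat R A]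

/-- Flat base change for a pseudo-coherent complex. -/
theorem nonempty_lbase_res
    [DRing.HasLBaseChange (Algebra.TensorProduct.includeRight.toRingHom : A →+* R' ⊗[R] A)]
    [DRing.HasLBaseChange (algebraMap R R')] {K : Dual.D A} (hK : DRing.IsPseudoCoherent' A K) :
    Nonempty ((DRing.restrictD (algebraMap R' (R' ⊗[R] A))).obj
        ((DRing.LBaseChange (Algebra.TensorProduct.includeRight.toRingHom : A →+* R' ⊗[R] A)).obj K) ≅
      (DRing.LBaseChange (algebraMap R R')).obj ((DRing.restrictD (algebraMap R A)).obj K)) := by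
  obtain ⟨P, b, hz, hP, ⟨e⟩⟩ := hK
  let α : A →+* R' ⊗[R] A := Algebra.TensorProduct.includeRight.toRingHom
  obtain ⟨eα⟩ := DRingLBase.nonempty_lbase_iso α
    (DRingTor.isKF_of_flat (fun i => have := (hP i).2; inferInstance) hz)
  have hflat : ∀ n, Module.Flat R ((resC (R := R) P).X n) := fun n => by
    haveI := (hP n).2
    exact flat_res_free (P.X n)
  obtain ⟨eρ⟩ := DRingLBase.nonempty_lbase_iso (algebraMap R R') (K := resC (R := R) P)
    (DRingTor.isKF_of_flat hflat fun i hi => (ModuleCat.restrictScalars _).map_isZero (hz i hi))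
  letI : Algebra A (R' ⊗[R] A) := α.toAlgebra
  haveI : IsScalarTower R A (R' ⊗[R] A) :=
    IsScalarTower.of_algebraMap_eq fun r => ((Algebra.TensorProduct.includeRight : A →ₐ[R] R' ⊗[R] A).commutes r).symm
  haveI : Algebra.IsPushout R R' A (R' ⊗[R] A) := TensorProduct.isPushout
  have hsq : α.comp (algebraMap R A) = (algebraMap R' (R' ⊗[R] A)).comp (algebraMap R R') := RingHom.ext fun r =>
    (((Algebra.TensorProduct.includeRight : A →ₐ[R] R' ⊗[R] A).commutes r).trans
      (IsScalarTower.algebraMap_apply R R' (R' ⊗[R] A) r))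
  haveI : ∀ i, IsIso ((KFlatLib.sqCx hsq P).f i) := fun i => KFlatLib.isIso_sqMod hsq rfl rfl rfl rfl (P.X i)
  haveI : IsIso (KFlatLib.sqCx hsq P) := HomologicalComplex.Hom.isIso_of_components _
  exact ⟨((DRing.LBaseChange (algebraMap R R')).mapIso
        ((DRing.restrictD (algebraMap R A)).mapIso e.symm ≪≫ resIso P) ≪≫
      eρ ≪≫ DerivedCategory.Q.mapIso (asIso (KFlatLib.sqCx hsq P)) ≪≫
      (resIso (R := R') ((DRingLTensor.extC' α).obj P)).symm ≪≫
      (DRing.restrictD (algebraMap R' (R' ⊗[R] A))).mapIso
        (eα.symm ≪≫ (DRing.LBaseChange α).mapIso e)).symm⟩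

end Groth.Agent.H6RelPerf
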