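import Groth.Prelude.Def_DualSh
import Groth.Agent.H9Misc.DRingPC
import Groth.Agent.H9Misc.DRingTor
import Groth.Agent.H9Misc.DRingTorDevissage
import Groth.Agent.H9Misc.DRingRestrict

/-! Bounded flat models of relatively perfect complexes over a ring. -/

set_option linter.style.haveILetI false
set_option backward.isDefEq.respectTransparency false

universe u

open CategoryTheory CategoryTheory.Limits

attribute [local instance] HasDerivedCategory.standard

namespace Groth.Agent.H6RelPerf

open Groth.Agent.H9Misc

variable {R A : Type u} [CommRing R] [CommRing A] [Algebra R A]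

/-- The restricted complex. -/
noncomputable abbrev resC (P : DRing.Cx A) : DRing.Cx R :=
  ((ModuleCat.restrictScalars.{u} (algebraMap R A)).mapHomologicalComplex (ComplexShape.up ℤ)).obj P

/-- Restriction of a complex. -/
noncomputable def resIso (P : DRing.Cx A) :
    (DRing.restrictD (algebraMap R A)).obj (DerivedCategory.Q.obj P) ≅ DerivedCategory.Q.obj (resC (R := R) P) :=
  ((ModuleCat.restrictScalars.{u} (algebraMap R A)).mapDerivedCategoryFactors).app P

lemma flat_res_free [Module.Flat R A] (M : ModuleCat.{u} A) [Module.Flat A M] :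
    Module.Flat R ((ModuleCat.restrictScalars (algebraMap R A)).obj M) := by
  letI : Module R M := Module.compHom M (algebraMap R A)
  haveI : IsScalarTower R A M := IsScalarTower.of_algebraMap_smul fun r x => rfl
  exact Module.Flat.trans R A M

/-- A relatively perfect complex has a bounded model with finitely presented terms flat over the base. -/
theorem exists_rep [Module.Flat R A] {K : Dual.D A} (hK : Dual2.IsRelPerfect R A K) :
    ∃ (X : DRing.Cx A) (a b : ℤ), DRing.VanishesOutside X a b ∧
      (∀ i : ℤ, Module.FinitePresentation A (X.X i) ∧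
        Module.Flat R ((ModuleCat.restrictScalars (algebraMap R A)).obj (X.X i))) ∧
      Nonempty (DRing.toD X ≅ K) := by
  obtain ⟨⟨P, b, hz, hP, ⟨e⟩⟩, a, b', hamp⟩ := hK
  let P' : DRing.Cx R := resC P
  have hflat : ∀ n, Module.Flat R (P'.X n) := fun n => by
    haveI := (hP n).2
    exact flat_res_free (P.X n)
  have hz' : DRing.VanishesAbove P' b := fun i hi => (ModuleCat.restrictScalars _).map_isZero (hz i hi)
  let eK : DerivedCategory.Q.obj P' ≅ (DRing.restrictD (algebraMap R A)).obj K :=
    (resIso P).symm ≪≫ (DRing.restrictD (algebraMap R A)).mapIso e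
  have hvan := (DRingTor.iff_van (DRingTor.isKF_of_flat hflat hz') eK).1 hamp
  have hex : ∀ i, i < a → P.ExactAt i := fun i hi => by
    have h := hvan.exactAt (Or.inl hi)
    exact (ShortComplex.exact_map_iff_of_faithful _ (ModuleCat.restrictScalars (algebraMap R A))).1 h
  let emb := ComplexShape.embeddingUpIntGE a
  haveI : P.IsGE a := (CochainComplex.isGE_iff P a).2 fun i hi => hex i hi
  refine ⟨P.truncGE a, a, b, fun i hi => ?_, fun i => ?_,
    ⟨(asIso (DerivedCategory.Q.map (P.πTruncGE a))).symm ≪≫ e⟩⟩
  · rcases hi with hi | hi
    · exact CochainComplex.isZero_of_isStrictlyGE _ a i hi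
    · rcases lt_or_ge i a with hia | hia
      · exact CochainComplex.isZero_of_isStrictlyGE _ a i hia
      obtain ⟨n, rfl⟩ : ∃ n : ℕ, a + n = i := ⟨(i - a).toNat, by omega⟩
      rcases Nat.eq_zero_or_pos n with rfl | hn
      · refine IsZero.of_iso ?_ (HomologicalComplex.truncGEXIsoOpcycles P emb (i := 0) rfl
          ((ComplexShape.boundaryGE_embeddingUpIntGE_iff a 0).2 rfl))
        exact IsZero.of_epi (P.pOpcycles (a + (0 : ℕ))) (hz _ hi)
      · exact (hz _ hi).of_iso (HomologicalComplex.truncGEXIso P emb (i := n) rfl
          (fun hb => by have := (ComplexShape.boundaryGE_embeddingUpIntGE_iff a n).1 hb; omega))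
  · rcases lt_or_ge i a with hia | hia
    · have h0 : IsZero ((P.truncGE a).X i) := CochainComplex.isZero_of_isStrictlyGE _ a i hia
      haveI := ModuleCat.subsingleton_of_isZero h0
      haveI := ModuleCat.subsingleton_of_isZero ((ModuleCat.restrictScalars (algebraMap R A)).map_isZero h0)
      exact ⟨inferInstance, inferInstance⟩
    obtain ⟨n, rfl⟩ : ∃ n : ℕ, a + n = i := ⟨(i - a).toNat, by omega⟩
    have hfree : ∀ j, Module.FinitePresentation A (P.X j) := fun j => by
      haveI := (hP j).1; haveI := (hP j).2
      exact Module.finitePresentation_of_projective A (P.X j)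
    rcases Nat.eq_zero_or_pos n with rfl | hn
    · let q := a + ((0 : ℕ) : ℤ)
      let eX : (P.truncGE a).X q ≅ ModuleCat.of A (P.X q ⧸ LinearMap.range (P.d (q - 1) q).hom) :=
        HomologicalComplex.truncGEXIsoOpcycles P emb (i := 0) rfl
          ((ComplexShape.boundaryGE_embeddingUpIntGE_iff a 0).2 rfl) ≪≫
        ((cokernelIsCokernel (P.d (q - 1) q)).coconePointUniqueUpToIso
          (P.opcyclesIsCokernel (q - 1) q (by simp))).symm ≪≫
        ModuleCat.cokernelIsoRangeQuotient (P.d (q - 1) q)
      constructor
      · haveI := hfree q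
        haveI := (hP (q - 1)).1
        haveI : Module.FinitePresentation A (P.X q ⧸ LinearMap.range (P.d (q - 1) q).hom) :=
          Module.finitePresentation_of_surjective (Submodule.mkQ _) (Submodule.mkQ_surjective _) (by
            rw [Submodule.ker_mkQ, LinearMap.range_eq_map]
            exact Module.Finite.fg_top.map _)
        exact Module.FinitePresentation.of_equiv eX.toLinearEquiv.symm
      · have hflatQ := DRingTor.flat_range_quotient hflat (q - 1 - 1) (q - 1) q (by omega) (by omega)
          fun M => hvan M (q - 1) (Or.inl (by omega))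
        let G := ModuleCat.restrictScalars.{u} (algebraMap R A)
        let el : (P'.X q ⧸ LinearMap.range (P'.d (q - 1) q).hom) ≃ₗ[R]
            G.obj (ModuleCat.of A (P.X q ⧸ LinearMap.range (P.d (q - 1) q).hom)) :=
          LinearEquiv.ofBijective
            (Submodule.liftQ _ (G.map (ModuleCat.ofHom (LinearMap.range (P.d (q - 1) q).hom).mkQ)).hom
              (by
                rintro _ ⟨y, rfl⟩
                exact (Submodule.Quotient.mk_eq_zero _).2 ⟨y, rfl⟩))
            ⟨by
              rw [injective_iff_map_eq_zero]
              intro z hz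
              obtain ⟨z, rfl⟩ := Submodule.Quotient.mk_surjective _ z
              obtain ⟨y, hy⟩ := (Submodule.Quotient.mk_eq_zero _).1 hz
              exact (Submodule.Quotient.mk_eq_zero _).2 ⟨y, hy⟩, by
              intro z
              obtain ⟨z, rfl⟩ := Submodule.Quotient.mk_surjective (LinearMap.range (P.d (q - 1) q).hom) z
              exact ⟨Submodule.Quotient.mk z, rfl⟩⟩
        exact (Module.Flat.equiv_iff ((G.mapIso eX).toLinearEquiv.trans el.symm)).2 hflatQ
    · let eX := HomologicalComplex.truncGEXIso P emb (i := n) rfl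
        (fun hb => by have := (ComplexShape.boundaryGE_embeddingUpIntGE_iff a n).1 hb; omega)
      constructor
      · haveI := hfree (a + n)
        exact Module.FinitePresentation.of_equiv eX.toLinearEquiv.symm
      · exact (Module.Flat.equiv_iff ((ModuleCat.restrictScalars (algebraMap R A)).mapIso eX).toLinearEquiv).2
          (hflat _)

/-- A bounded complex with flat terms over the base has finite tor dimension over the base. -/
theorem finiteTor_of_rep {X : DRing.Cx A} {a b : ℤ} (hz : DRing.VanishesOutside X a b)
    (hflat : ∀ i : ℤ, Module.Flat R ((ModuleCat.restrictScalars (algebraMap R A)).obj (X.X i)))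
    {K : Dual.D A} (e : DRing.toD X ≅ K) :
    DRing.HasFiniteTorDimCx R ((DRing.restrictD (algebraMap R A)).obj K) :=
  ⟨a, b, resC X, fun i hi => (ModuleCat.restrictScalars _).map_isZero (hz i hi), hflat,
    ⟨(resIso X).symm ≪≫ (DRing.restrictD (algebraMap R A)).mapIso e⟩⟩

end Groth.Agent.H6RelPerf
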